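/-
The Lie ring associated to the lower central series of a finite group.
-/
import Cfsg.Agent.S4206
import Mathlib.Algebra.Lie.Basic
import Mathlib.GroupTheory.Nilpotent
import Mathlib.Tactic

set_option linter.unusedSectionVars false

open scoped commutatorElement

namespace Cfsg.Lib.LieFpf

variable (G : Type*) [Group G] [Finite G]

/-- The lower central series of the whole group. -/
abbrev lcs (k : ℕ) : Subgroup G := (⊤ : Subgroup G).lowerCentralSeries k

theorem lcs_succ_le (k : ℕ) : lcs G (k + 1) ≤ lcs G k :=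
  Subgroup.lowerCentralSeries_antitone (⊤ : Subgroup G) (Nat.le_succ k)

theorem lcs_le {i j : ℕ} (h : i ≤ j) : lcs G j ≤ lcs G i :=
  Subgroup.lowerCentralSeries_antitone (⊤ : Subgroup G) h

theorem commutator_lcs (i j : ℕ) : ⁅lcs G i, lcs G j⁆ ≤ lcs G (i + j + 1) :=
  Cfsg.Agent.S4206.result (lcs G) (fun _ => inferInstance) (lcs_succ_le G) ⊤ (fun _ => le_rfl) i j

variable {G} in
theorem comm_mem {i j : ℕ} {a b : G} (ha : a ∈ lcs G i) (hb : b ∈ lcs G j) : ⁅a, b⁆ ∈ lcs G (i + j + 1) :=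
  commutator_lcs G i j (Subgroup.commutator_mem_commutator ha hb)

/-- A factor of the lower central series. -/
abbrev Q (k : ℕ) := lcs G k ⧸ (lcs G (k + 1)).subgroupOf (lcs G k)

instance (k : ℕ) : CommGroup (Q G k) :=
  { (inferInstance : Group (Q G k)) with
    mul_comm := fun x y => by
      induction x using QuotientGroup.induction_on with
      | H a =>
        induction y using QuotientGroup.induction_on with
        | H b =>
          rw [← QuotientGroup.mk_mul, ← QuotientGroup.mk_mul, QuotientGroup.eq, Subgroup.mem_subgroupOf]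
          have e : (((a * b)⁻¹ * (b * a) : lcs G k) : G) = ⁅(b : G)⁻¹, (a : G)⁻¹⁆ := by
            simp [commutatorElement_def, mul_assoc]
          rw [e]
          exact lcs_le G (by omega) (comm_mem (inv_mem b.2) (inv_mem a.2)) }

/-- The associated graded abelian group, cut at `c`. -/
abbrev Gr (c : ℕ) := ∀ k : Fin c, Additive (Q G k)

variable {G} {c : ℕ}

open scoped Classical in
/-- The class of `g` in degree `k`. -/
noncomputable def ι (k : ℕ) (g : G) : Gr G c :=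
  if h : k < c ∧ g ∈ lcs G k then
    Pi.single (M := fun i : Fin c => Additive (Q G i)) ⟨k, h.1⟩
      (Additive.ofMul (QuotientGroup.mk (⟨g, h.2⟩ : lcs G k)))
  else 0

theorem ι_of_ge {k : ℕ} (h : c ≤ k) (g : G) : (ι k g : Gr G c) = 0 := dif_neg fun h' => by omega

theorem ι_eq {k : ℕ} (hk : k < c) {g : G} (hg : g ∈ lcs G k) :
    (ι k g : Gr G c) = Pi.single (M := fun i : Fin c => Additive (Q G i)) ⟨k, hk⟩
      (Additive.ofMul (QuotientGroup.mk (⟨g, hg⟩ : lcs G k))) :=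
  dif_pos ⟨hk, hg⟩

theorem ι_mul {k : ℕ} {a b : G} (ha : a ∈ lcs G k) (hb : b ∈ lcs G k) :
    (ι k (a * b) : Gr G c) = ι k a + ι k b := by
  by_cases hk : k < c
  · rw [ι_eq hk ha, ι_eq hk hb, ι_eq hk (mul_mem ha hb), ← Pi.single_add]
    rfl
  · rw [ι_of_ge (not_lt.1 hk), ι_of_ge (not_lt.1 hk), ι_of_ge (not_lt.1 hk), add_zero]

theorem ι_one (k : ℕ) : (ι k (1 : G) : Gr G c) = 0 := by
  have h := ι_mul (c := c) (one_mem (lcs G k)) (one_mem (lcs G k))
  rw [mul_one] at h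
  exact left_eq_add.1 h

theorem ι_inv {k : ℕ} {a : G} (ha : a ∈ lcs G k) : (ι k a⁻¹ : Gr G c) = -ι k a := by
  refine eq_neg_of_add_eq_zero_left ?_
  rw [← ι_mul (inv_mem ha) ha, inv_mul_cancel, ι_one]

theorem ι_eq_zero_of_mem {k : ℕ} {a : G} (ha : a ∈ lcs G (k + 1)) : (ι k a : Gr G c) = 0 := by
  by_cases hk : k < c
  · rw [ι_eq hk (lcs_succ_le G k ha)]
    have : (QuotientGroup.mk (⟨a, lcs_succ_le G k ha⟩ : lcs G k) : Q G k) = 1 :=
      (QuotientGroup.eq_one_iff _).2 (Subgroup.mem_subgroupOf.2 ha)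
    rw [this, ofMul_one, Pi.single_zero]
  · exact ι_of_ge (not_lt.1 hk) a

theorem mem_of_ι_eq_zero {k : ℕ} (hk : k < c) {a : G} (ha : a ∈ lcs G k) (h : (ι k a : Gr G c) = 0) :
    a ∈ lcs G (k + 1) := by
  rw [ι_eq hk ha, Pi.single_eq_zero_iff, ofMul_eq_zero, QuotientGroup.eq_one_iff] at h
  exact h

theorem inv_mul_mem_of_ι_eq {k : ℕ} (hk : k < c) {a b : G} (ha : a ∈ lcs G k) (hb : b ∈ lcs G k)
    (h : (ι k a : Gr G c) = ι k b) : a⁻¹ * b ∈ lcs G (k + 1) := by
  refine mem_of_ι_eq_zero hk (mul_mem (inv_mem ha) hb) ?_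
  rw [ι_mul (inv_mem ha) hb, ι_inv ha, h, neg_add_cancel]

theorem ι_nsmul {k : ℕ} {a : G} (ha : a ∈ lcs G k) : ∀ n : ℕ, (ι k (a ^ n) : Gr G c) = n • ι k a
  | 0 => by rw [pow_zero, ι_one, zero_smul]
  | n + 1 => by rw [pow_succ, ι_mul (pow_mem ha n) ha, ι_nsmul ha n, succ_nsmul]

theorem ι_conj {k : ℕ} {a : G} (ha : a ∈ lcs G k) (g : G) : (ι k (g * a * g⁻¹) : Gr G c) = ι k a := by
  have hm : ⁅g, a⁆ ∈ lcs G (k + 1) := by
    have := comm_mem (i := 0) (Subgroup.mem_top g) ha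
    rwa [zero_add] at this
  rw [show g * a * g⁻¹ = ⁅g, a⁆ * a by simp [commutatorElement_def, mul_assoc],
    ι_mul (lcs_succ_le G k hm) ha, ι_eq_zero_of_mem hm, zero_add]

/-! ### The commutator pairing -/

theorem ι_comm_mul {i j : ℕ} {a a' b : G} (ha : a ∈ lcs G i) (ha' : a' ∈ lcs G i) (hb : b ∈ lcs G j) :
    (ι (i + j + 1) ⁅a * a', b⁆ : Gr G c) = ι (i + j + 1) ⁅a, b⁆ + ι (i + j + 1) ⁅a', b⁆ := by
  rw [show ⁅a * a', b⁆ = a * ⁅a', b⁆ * a⁻¹ * ⁅a, b⁆ by simp [commutatorElement_def, mul_assoc],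
    ι_mul (Subgroup.Normal.conj_mem inferInstance _ (comm_mem ha' hb) a) (comm_mem ha hb),
    ι_conj (comm_mem ha' hb), add_comm]

theorem ι_comm_swap {i j : ℕ} {a b : G} (ha : a ∈ lcs G i) (hb : b ∈ lcs G j) :
    (ι (i + j + 1) ⁅b, a⁆ : Gr G c) = -ι (i + j + 1) ⁅a, b⁆ := by
  rw [← commutatorElement_inv, ι_inv (comm_mem ha hb)]

theorem ι_comm_congr {i j : ℕ} {a a' b : G} (ha : a ∈ lcs G i) (ha' : a' ∈ lcs G i) (hb : b ∈ lcs G j)
    (h : (ι i a : Gr G c) = ι i a') : (ι (i + j + 1) ⁅a, b⁆ : Gr G c) = ι (i + j + 1) ⁅a', b⁆ := by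
  by_cases hi : i < c
  · have hd := inv_mul_mem_of_ι_eq hi ha ha' h
    have hd' := comm_mem hd hb
    rw [show i + 1 + j + 1 = i + j + 1 + 1 by ring] at hd'
    conv_rhs => rw [show a' = a * (a⁻¹ * a') by simp]
    rw [ι_comm_mul ha (lcs_succ_le G i hd) hb, ι_eq_zero_of_mem hd', add_zero]
  · rw [ι_of_ge (by omega), ι_of_ge (by omega)]

theorem ι_comm_congr_right {i j : ℕ} {a b b' : G} (ha : a ∈ lcs G i) (hb : b ∈ lcs G j) (hb' : b' ∈ lcs G j)
    (h : (ι j b : Gr G c) = ι j b') : (ι (i + j + 1) ⁅a, b⁆ : Gr G c) = ι (i + j + 1) ⁅a, b'⁆ := by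
  have := ι_comm_congr hb hb' ha h
  rw [add_comm j i] at this
  rwa [ι_comm_swap ha hb, ι_comm_swap ha hb', neg_inj] at this

/-! ### Representatives -/

/-- A representative in `G` of the degree `k` part of `x`. -/
noncomputable def rep (x : Gr G c) (k : Fin c) : G := ((Additive.toMul (x k)).out : lcs G k)

theorem rep_mem (x : Gr G c) (k : Fin c) : rep x k ∈ lcs G k := SetLike.coe_mem _

theorem ι_rep (x : Gr G c) (k : Fin c) : (ι (k : ℕ) (rep x k) : Gr G c) = Pi.single k (x k) := by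
  rw [ι_eq k.2 (rep_mem x k)]
  simp only [rep, Fin.eta, Subtype.coe_eta, QuotientGroup.out_eq', ofMul_toMul]

theorem sum_ι_rep (x : Gr G c) : ∑ k : Fin c, (ι (k : ℕ) (rep x k) : Gr G c) = x := by
  simp only [ι_rep, Finset.univ_sum_single]

theorem ι_rep_add (x y : Gr G c) (k : Fin c) :
    (ι (k : ℕ) (rep (x + y) k) : Gr G c) = ι (k : ℕ) (rep x k * rep y k) := by
  rw [ι_mul (rep_mem x k) (rep_mem y k), ι_rep, ι_rep, ι_rep, ← Pi.single_add]
  rfl

theorem ι_rep_ι {k : Fin c} {i : ℕ} {a : G} (ha : a ∈ lcs G i) :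
    (ι (k : ℕ) (rep (ι i a) k) : Gr G c) = if (k : ℕ) = i then ι i a else 0 := by
  rw [ι_rep]
  by_cases hi : i < c
  · rw [ι_eq hi ha]
    split_ifs with h
    · subst h
      simp only [Fin.eta, Pi.single_eq_same]
    · rw [Pi.single_eq_of_ne (fun e => h (by rw [e]))]
      exact Pi.single_zero _
  · rw [ι_of_ge (not_lt.1 hi), Pi.zero_apply, Pi.single_zero, ite_self]

/-! ### The bracket -/

/-- The bracket. -/
noncomputable def brk (x y : Gr G c) : Gr G c :=
  ∑ i : Fin c, ∑ j : Fin c, ι ((i : ℕ) + j + 1) ⁅rep x i, rep y j⁆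

theorem brk_swap (x y : Gr G c) : brk y x = -brk x y := by
  rw [brk, brk, Finset.sum_comm, ← Finset.sum_neg_distrib]
  refine Finset.sum_congr rfl fun i _ => ?_
  rw [← Finset.sum_neg_distrib]
  refine Finset.sum_congr rfl fun j _ => ?_
  rw [add_comm (j : ℕ) i, ι_comm_swap (rep_mem x i) (rep_mem y j)]

theorem brk_add_left (x x' y : Gr G c) : brk (x + x') y = brk x y + brk x' y := by
  simp only [brk, ← Finset.sum_add_distrib]
  refine Finset.sum_congr rfl fun i _ => Finset.sum_congr rfl fun j _ => ?_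
  rw [ι_comm_congr (rep_mem _ i) (mul_mem (rep_mem x i) (rep_mem x' i)) (rep_mem y j) (ι_rep_add x x' i),
    ι_comm_mul (rep_mem x i) (rep_mem x' i) (rep_mem y j)]

theorem brk_add_right (x y y' : Gr G c) : brk x (y + y') = brk x y + brk x y' := by
  rw [brk_swap (y + y') x, brk_add_left, neg_add, ← brk_swap, ← brk_swap]

theorem brk_ι {i j : ℕ} {a b : G} (ha : a ∈ lcs G i) (hb : b ∈ lcs G j) :
    brk (ι i a) (ι j b : Gr G c) = ι (i + j + 1) ⁅a, b⁆ := by
  have off : ∀ (i' j' : Fin c), ¬((i' : ℕ) = i ∧ (j' : ℕ) = j) →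
      (ι ((i' : ℕ) + j' + 1) ⁅rep (ι i a : Gr G c) i', rep (ι j b : Gr G c) j'⁆ : Gr G c) = 0 := by
    intro i' j' h
    rcases not_and_or.1 h with h | h
    · rw [ι_comm_congr (rep_mem _ i') (one_mem _) (rep_mem _ j') (by rw [ι_rep_ι ha, if_neg h, ι_one]),
        commutatorElement_one_left, ι_one]
    · rw [ι_comm_congr_right (rep_mem _ i') (rep_mem _ j') (one_mem _) (by rw [ι_rep_ι hb, if_neg h, ι_one]),
        commutatorElement_one_right, ι_one]
  by_cases hij : i < c ∧ j < c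
  · rw [brk, Finset.sum_eq_single ⟨i, hij.1⟩ (fun i' _ h => Finset.sum_eq_zero fun j' _ =>
      off i' j' fun e => h (Fin.ext e.1)) (fun h => absurd (Finset.mem_univ _) h),
      Finset.sum_eq_single ⟨j, hij.2⟩ (fun j' _ h => off _ j' fun e => h (Fin.ext e.2))
        (fun h => absurd (Finset.mem_univ _) h)]
    dsimp only
    rw [ι_comm_congr (i := i) (j := j) (rep_mem _ ⟨i, hij.1⟩) ha (rep_mem _ ⟨j, hij.2⟩)
        ((ι_rep_ι (k := ⟨i, hij.1⟩) ha).trans (if_pos rfl)),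
      ι_comm_congr_right (i := i) (j := j) ha (rep_mem _ ⟨j, hij.2⟩) hb
        ((ι_rep_ι (k := ⟨j, hij.2⟩) hb).trans (if_pos rfl))]
  · rw [ι_of_ge (k := i + j + 1) (by omega) ⁅a, b⁆, brk]
    refine Finset.sum_eq_zero fun i' _ => Finset.sum_eq_zero fun j' _ => off i' j' fun e => ?_
    have := i'.2; have := j'.2
    omega

theorem brk_self (x : Gr G c) : brk x x = 0 := by
  rw [brk, ← Fintype.sum_prod_type']
  refine Finset.sum_involution (fun q _ => q.swap) (fun q _ => ?_) (fun q _ hne e => hne ?_)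
    (fun q _ => Finset.mem_univ _) (fun q _ => Prod.swap_swap q)
  · rw [Prod.fst_swap, Prod.snd_swap, add_comm (q.2 : ℕ) q.1, ι_comm_swap (rep_mem x q.1) (rep_mem x q.2),
      add_neg_cancel]
  · have : q.2 = q.1 := congrArg Prod.fst e
    rw [this, commutatorElement_self, ι_one]

/-- The bracket as a biadditive map. -/
noncomputable def brkHom : Gr G c →+ Gr G c →+ Gr G c :=
  AddMonoidHom.mk' (fun x => AddMonoidHom.mk' (brk x) (brk_add_right x))
    fun x x' => AddMonoidHom.ext fun y => brk_add_left x x' y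

theorem brkHom_apply (x y : Gr G c) : brkHom x y = brk x y := rfl

theorem leibniz_ι {i j k : ℕ} {a b d : G} (ha : a ∈ lcs G i) (hb : b ∈ lcs G j) (hd : d ∈ lcs G k) :
    brk (ι i a) (brk (ι j b) (ι k d : Gr G c)) =
      brk (brk (ι i a) (ι j b)) (ι k d) + brk (ι j b) (brk (ι i a) (ι k d)) := by
  have hab := comm_mem ha hb
  have hbd := comm_mem hb hd
  have had := comm_mem ha hd
  rw [brk_ι hb hd, brk_ι ha hb, brk_ι ha hd, brk_ι ha hbd, brk_ι hab hd, brk_ι hb had,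
    show i + (j + k + 1) + 1 = i + j + k + 2 by ring, show i + j + 1 + k + 1 = i + j + k + 2 by ring,
    show j + (i + k + 1) + 1 = i + j + k + 2 by ring]
  set n := i + j + k + 2 with hn
  -- the three terms of the Hall-Witt identity
  have hA : (ι n ⁅⁅a, b⁆, b * d * b⁻¹⁆ : Gr G c) = ι n ⁅⁅a, b⁆, d⁆ := by
    rw [show n = i + j + 1 + k + 1 by omega]
    exact ι_comm_congr_right hab (Subgroup.Normal.conj_mem inferInstance _ hd b) hd (ι_conj hd b)
  have hB : (ι n ⁅⁅b, d⁆, d * a * d⁻¹⁆ : Gr G c) = -ι n ⁅a, ⁅b, d⁆⁆ := by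
    rw [show n = j + k + 1 + i + 1 by omega,
      ι_comm_congr_right hbd (Subgroup.Normal.conj_mem inferInstance _ ha d) ha (ι_conj ha d),
      ι_comm_swap hbd ha, neg_neg]
  have hC : (ι n ⁅⁅d, a⁆, a * b * a⁻¹⁆ : Gr G c) = ι n ⁅b, ⁅a, d⁆⁆ := by
    have hda : ⁅d, a⁆ ∈ lcs G (i + k + 1) := by rw [← commutatorElement_inv]; exact inv_mem had
    rw [show n = i + k + 1 + j + 1 by omega,
      ι_comm_congr_right hda (Subgroup.Normal.conj_mem inferInstance _ hb a) hb (ι_conj hb a)]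
    -- `⁅⁅d, a⁆, b⁆ = ⁅⁅a, d⁆⁻¹, b⁆`
    have h1 : (ι (i + k + 1 + j + 1) ⁅⁅d, a⁆, b⁆ : Gr G c) + ι (i + k + 1 + j + 1) ⁅⁅a, d⁆, b⁆ = 0 := by
      rw [← ι_comm_mul hda had hb, ← commutatorElement_inv a d, inv_mul_cancel, commutatorElement_one_left, ι_one]
    rw [ι_comm_swap had hb]
    exact eq_neg_of_add_eq_zero_left h1
  have hm1 : ⁅⁅a, b⁆, b * d * b⁻¹⁆ ∈ lcs G n :=
    lcs_le G (by omega) (comm_mem hab (Subgroup.Normal.conj_mem inferInstance _ hd b))
  have hm2 : ⁅⁅b, d⁆, d * a * d⁻¹⁆ ∈ lcs G n :=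
    lcs_le G (by omega) (comm_mem hbd (Subgroup.Normal.conj_mem inferInstance _ ha d))
  have hm3 : ⁅⁅d, a⁆, a * b * a⁻¹⁆ ∈ lcs G n :=
    lcs_le G (by omega) (comm_mem (comm_mem hd ha) (Subgroup.Normal.conj_mem inferInstance _ hb a))
  have hw : (ι n (⁅⁅a, b⁆, b * d * b⁻¹⁆ * ⁅⁅b, d⁆, d * a * d⁻¹⁆ * ⁅⁅d, a⁆, a * b * a⁻¹⁆) : Gr G c) = 0 := by
    rw [commutatorElement_commutatorElement_conj_mul, ι_one]
  rw [ι_mul (mul_mem hm1 hm2) hm3, ι_mul hm1 hm2, hA, hB, hC] at hw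
  rw [← sub_eq_zero]
  linear_combination (norm := abel) -hw

theorem brk_leibniz (x y z : Gr G c) : brk x (brk y z) = brk (brk x y) z + brk y (brk x z) := by
  have h1 : ∀ {i j : ℕ} {a b : G}, a ∈ lcs G i → b ∈ lcs G j → ∀ z : Gr G c,
      brkHom (ι i a) (brkHom (ι j b) z) =
        brkHom (brkHom (ι i a) (ι j b)) z + brkHom (ι j b) (brkHom (ι i a) z) := by
    intro i j a b ha hb z
    rw [← sum_ι_rep z]
    simp only [map_sum, ← Finset.sum_add_distrib]
    exact Finset.sum_congr rfl fun k _ => leibniz_ι ha hb (rep_mem z k)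
  have h2 : ∀ {i : ℕ} {a : G}, a ∈ lcs G i → ∀ y z : Gr G c,
      brkHom (ι i a) (brkHom y z) = brkHom (brkHom (ι i a) y) z + brkHom y (brkHom (ι i a) z) := by
    intro i a ha y z
    rw [← sum_ι_rep y]
    simp only [map_sum, AddMonoidHom.finsetSum_apply, ← Finset.sum_add_distrib]
    exact Finset.sum_congr rfl fun k _ => h1 ha (rep_mem y k) z
  show brkHom x (brkHom y z) = brkHom (brkHom x y) z + brkHom y (brkHom x z)
  rw [← sum_ι_rep x]
  simp only [map_sum, AddMonoidHom.finsetSum_apply, ← Finset.sum_add_distrib]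
  exact Finset.sum_congr rfl fun k _ => h2 (rep_mem x k) y z

noncomputable instance instLieRingGr : LieRing (Gr G c) where
  bracket := brk
  add_lie := brk_add_left
  lie_add := brk_add_right
  lie_self := brk_self
  leibniz_lie := brk_leibniz

theorem lie_ι {i j : ℕ} {a b : G} (ha : a ∈ lcs G i) (hb : b ∈ lcs G j) :
    ⁅(ι i a : Gr G c), (ι j b : Gr G c)⁆ = ι (i + j + 1) ⁅a, b⁆ := brk_ι ha hb

theorem card_nsmul_gr (x : Gr G c) : Nat.card G • x = 0 := by
  rw [← sum_ι_rep x, Finset.smul_sum]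
  refine Finset.sum_eq_zero fun k _ => ?_
  rw [← ι_nsmul (rep_mem x k), pow_card_eq_one', ι_one]

/-! ### Maps induced by endomorphisms -/

theorem map_mem_lcs (f : G →* G) {k : ℕ} {a : G} (ha : a ∈ lcs G k) : f a ∈ lcs G k := by
  have h : (lcs G k).map f ≤ lcs G k := by
    rw [Subgroup.map_lowerCentralSeries]
    exact Subgroup.lowerCentralSeries_mono k le_top
  exact h ⟨a, ha, rfl⟩

theorem ι_map_congr (f : G →* G) {k : ℕ} {a a' : G} (ha : a ∈ lcs G k) (ha' : a' ∈ lcs G k)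
    (h : (ι k a : Gr G c) = ι k a') : (ι k (f a) : Gr G c) = ι k (f a') := by
  by_cases hk : k < c
  · have hd := map_mem_lcs f (inv_mul_mem_of_ι_eq hk ha ha' h)
    conv_rhs => rw [show a' = a * (a⁻¹ * a') by simp, map_mul]
    rw [ι_mul (map_mem_lcs f ha) (lcs_succ_le G k hd), ι_eq_zero_of_mem hd, add_zero]
  · rw [ι_of_ge (not_lt.1 hk), ι_of_ge (not_lt.1 hk)]

/-- The endomorphism of the associated Lie ring. -/
noncomputable def grMap (f : G →* G) : Gr G c →+ Gr G c :=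
  AddMonoidHom.mk' (fun x => ∑ k : Fin c, ι (k : ℕ) (f (rep x k))) fun x y => by
    rw [← Finset.sum_add_distrib]
    refine Finset.sum_congr rfl fun k _ => ?_
    rw [ι_map_congr f (rep_mem _ k) (mul_mem (rep_mem x k) (rep_mem y k)) (ι_rep_add x y k), map_mul,
      ι_mul (map_mem_lcs f (rep_mem x k)) (map_mem_lcs f (rep_mem y k))]

theorem grMap_apply (f : G →* G) (x : Gr G c) : grMap f x = ∑ k : Fin c, ι (k : ℕ) (f (rep x k)) := rfl

theorem grMap_ι (f : G →* G) {i : ℕ} {a : G} (ha : a ∈ lcs G i) : grMap f (ι i a : Gr G c) = ι i (f a) := by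
  have off : ∀ k : Fin c, (k : ℕ) ≠ i → (ι (k : ℕ) (f (rep (ι i a : Gr G c) k)) : Gr G c) = 0 := by
    intro k h
    rw [ι_map_congr f (rep_mem _ k) (one_mem _) (by rw [ι_rep_ι ha, if_neg h, ι_one]), map_one, ι_one]
  rw [grMap_apply]
  by_cases hi : i < c
  · rw [Finset.sum_eq_single ⟨i, hi⟩ (fun k _ h => off k fun e => h (Fin.ext e))
      (fun h => absurd (Finset.mem_univ _) h)]
    exact ι_map_congr f (k := i) (rep_mem _ ⟨i, hi⟩) ha ((ι_rep_ι (k := ⟨i, hi⟩) ha).trans (if_pos rfl))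
  · rw [ι_of_ge (k := i) (not_lt.1 hi) (f a)]
    exact Finset.sum_eq_zero fun k _ => off k fun e => hi (e ▸ k.2)

theorem grMap_lie (f : G →* G) (x y : Gr G c) : grMap f ⁅x, y⁆ = ⁅grMap f x, grMap f y⁆ := by
  have hb : ∀ x y : Gr G c, ⁅x, y⁆ = brkHom x y := fun _ _ => rfl
  rw [← sum_ι_rep x, ← sum_ι_rep y]
  simp only [hb, map_sum, AddMonoidHom.finsetSum_apply]
  refine Finset.sum_congr rfl fun i _ => Finset.sum_congr rfl fun j _ => ?_
  simp only [brkHom_apply]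
  rw [grMap_ι f (rep_mem _ i), grMap_ι f (rep_mem _ j), brk_ι (rep_mem _ _) (rep_mem _ _),
    brk_ι (map_mem_lcs f (rep_mem _ _)) (map_mem_lcs f (rep_mem _ _)),
    grMap_ι f (comm_mem (rep_mem _ _) (rep_mem _ _)), map_commutatorElement]

theorem grMap_grMap (f g : G →* G) (x : Gr G c) : grMap f (grMap g x) = grMap (f.comp g) x := by
  rw [grMap_apply g, map_sum, grMap_apply]
  exact Finset.sum_congr rfl fun k _ => grMap_ι f (map_mem_lcs g (rep_mem x k))

theorem grMap_id (x : Gr G c) : grMap (MonoidHom.id G) x = x := sum_ι_rep x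

theorem grMap_fpf (f : G →* G) (hf : ∀ g, f g = g → g = 1) {x : Gr G c} (hx : grMap f x = x) : x = 0 := by
  funext k
  have hcomp : (ι (k : ℕ) (f (rep x k)) : Gr G c) k = x k := by
    have := congrFun hx k
    rw [grMap_apply, Finset.sum_apply, Finset.sum_eq_single k (fun j _ hj => ?_)
      (fun h => absurd (Finset.mem_univ _) h)] at this
    · exact this
    · rw [ι_eq j.2 (map_mem_lcs f (rep_mem x j)), Pi.single_eq_of_ne hj.symm]
  -- the class of `rep x k` is fixed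
  have heq : (ι (k : ℕ) (rep x k) : Gr G c) = ι (k : ℕ) (f (rep x k)) := by
    rw [ι_eq k.2 (map_mem_lcs f (rep_mem x k))] at hcomp
    simp only [Fin.eta, Pi.single_eq_same] at hcomp
    rw [ι_rep, ι_eq k.2 (map_mem_lcs f (rep_mem x k)), ← hcomp]
  set a := rep x k with ha
  have hd := inv_mul_mem_of_ι_eq k.2 (rep_mem x k) (map_mem_lcs f (rep_mem x k)) heq
  -- surjectivity of `t ↦ t⁻¹ f t` on the next term
  let φ : lcs G ((k : ℕ) + 1) → lcs G ((k : ℕ) + 1) := fun t => ⟨(t : G)⁻¹ * f t, mul_mem (inv_mem t.2) (map_mem_lcs f t.2)⟩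
  have hinj : ∀ s t : G, s⁻¹ * f s = t⁻¹ * f t → s = t := by
    intro s t h
    refine (mul_inv_eq_one.1 (hf (t * s⁻¹) ?_)).symm
    rw [map_mul, map_inv, mul_inv_eq_iff_eq_mul]
    calc f t = t * (t⁻¹ * f t) := by group
      _ = t * (s⁻¹ * f s) := by rw [h]
      _ = t * s⁻¹ * f s := by group
  have hsurj : Function.Surjective φ := Finite.surjective_of_injective fun s t h =>
    Subtype.ext (hinj _ _ (congrArg Subtype.val h))
  obtain ⟨t, ht⟩ := hsurj ⟨_, hd⟩
  have hat : (t : G) = rep x k := hinj _ _ (congrArg Subtype.val ht)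
  have h0 : (ι (k : ℕ) (rep x k) : Gr G c) = 0 := ι_eq_zero_of_mem (hat ▸ t.2)
  rw [ι_rep, Pi.single_eq_zero_iff] at h0
  exact h0

end Cfsg.Lib.LieFpf
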