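/-
Graded Lie rings with trivial zero component: Kreknin's derived length bound and the Kreknin-Kostrikin
nilpotency bound.
-/
import Mathlib.Algebra.Lie.Basic
import Mathlib.Data.ZMod.Basic
import Mathlib.Algebra.Group.Subgroup.Lattice
import Mathlib.Tactic

set_option linter.unusedSectionVars false

namespace Cfsg.Lib.LieFpf

variable {L : Type*} [LieRing L]

/-- The additive span of the brackets. -/
def br (A B : AddSubgroup L) : AddSubgroup L :=
  AddSubgroup.closure {x | ∃ a ∈ A, ∃ b ∈ B, ⁅a, b⁆ = x}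

theorem lie_mem_br {A B : AddSubgroup L} {a b : L} (ha : a ∈ A) (hb : b ∈ B) : ⁅a, b⁆ ∈ br A B :=
  AddSubgroup.subset_closure ⟨a, ha, b, hb, rfl⟩

theorem br_le {A B C : AddSubgroup L} : br A B ≤ C ↔ ∀ a ∈ A, ∀ b ∈ B, ⁅a, b⁆ ∈ C := by
  rw [br, AddSubgroup.closure_le]
  exact ⟨fun h a ha b hb => h ⟨a, ha, b, hb, rfl⟩, fun h x ⟨a, ha, b, hb, he⟩ => he ▸ h a ha b hb⟩

theorem br_mono {A A' B B' : AddSubgroup L} (hA : A ≤ A') (hB : B ≤ B') : br A B ≤ br A' B' :=
  br_le.2 fun _ ha _ hb => lie_mem_br (hA ha) (hB hb)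

variable {p : ℕ}

/-- A graded family without zero component. -/
structure IsGraded (E : ZMod p → AddSubgroup L) : Prop where
  zero : E 0 = ⊥
  lie : ∀ i j, ∀ a ∈ E i, ∀ b ∈ E j, ⁅a, b⁆ ∈ E (i + j)

/-- `F` is a graded ideal of `E`. -/
structure IsIdeal (E F : ZMod p → AddSubgroup L) : Prop where
  le : F ≤ E
  lie : ∀ i j, ∀ a ∈ E i, ∀ b ∈ F j, ⁅a, b⁆ ∈ F (i + j)

/-- One step along a family. -/
def act (V D : ZMod p → AddSubgroup L) : ZMod p → AddSubgroup L :=
  fun k => ⨆ i, br (V i) (D (k - i))

/-- The derived family. -/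
def der (E : ZMod p → AddSubgroup L) : ZMod p → AddSubgroup L := act E E

theorem lie_mem_act {V D : ZMod p → AddSubgroup L} {i j : ZMod p} {a b : L} (ha : a ∈ V i) (hb : b ∈ D j) :
    ⁅a, b⁆ ∈ act V D (i + j) :=
  AddSubgroup.mem_iSup_of_mem i (lie_mem_br ha (by rwa [add_sub_cancel_left]))

theorem act_le {V D W : ZMod p → AddSubgroup L} :
    act V D ≤ W ↔ ∀ i j, ∀ a ∈ V i, ∀ b ∈ D j, ⁅a, b⁆ ∈ W (i + j) := by
  constructor
  · exact fun h i j a ha b hb => h (i + j) (lie_mem_act ha hb)
  · intro h k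
    refine iSup_le fun i => br_le.2 fun a ha b hb => ?_
    simpa using h i (k - i) a ha b hb

theorem act_mono {V V' D D' : ZMod p → AddSubgroup L} (hV : V ≤ V') (hD : D ≤ D') : act V D ≤ act V' D' :=
  act_le.2 fun i j _ ha _ hb => lie_mem_act (hV i ha) (hD j hb)

theorem IsGraded.der_le {E : ZMod p → AddSubgroup L} (hE : IsGraded E) : der E ≤ E := act_le.2 hE.lie

theorem IsIdeal.refl {E : ZMod p → AddSubgroup L} (hE : IsGraded E) : IsIdeal E E := ⟨le_rfl, hE.lie⟩

theorem IsIdeal.graded {E F : ZMod p → AddSubgroup L} (hE : IsGraded E) (hF : IsIdeal E F) : IsGraded F :=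
  ⟨le_bot_iff.1 ((hF.le 0).trans hE.zero.le), fun i j a ha b hb => hF.lie i j a (hF.le i ha) b hb⟩

theorem IsIdeal.lie_right {E F : ZMod p → AddSubgroup L} (hF : IsIdeal E F) {i j : ZMod p} {a b : L}
    (ha : a ∈ F i) (hb : b ∈ E j) : ⁅a, b⁆ ∈ F (i + j) := by
  rw [← lie_skew, add_comm]
  exact neg_mem (hF.lie j i b hb a ha)

theorem IsIdeal.der {E F : ZMod p → AddSubgroup L} (hE : IsGraded E) (hF : IsIdeal E F) :
    IsIdeal E (LieFpf.der F) := by
  refine ⟨(IsIdeal.graded hE hF).der_le.trans hF.le, fun i j a ha b hb => ?_⟩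
  have key : LieFpf.der F ≤ fun k => (LieFpf.der F (i + k)).comap (AddMonoidHom.mk' (fun b => ⁅a, b⁆) (lie_add a)) := by
    refine act_le.2 fun k l x hx y hy => ?_
    show ⁅a, ⁅x, y⁆⁆ ∈ LieFpf.der F (i + (k + l))
    rw [leibniz_lie]
    refine add_mem ?_ ?_
    · rw [← add_assoc]
      exact lie_mem_act (hF.lie i k a ha x hx) hy
    · rw [show i + (k + l) = k + (i + l) by ring]
      exact lie_mem_act hx (hF.lie i l a ha y hy)
  exact key j hb

theorem isIdeal_iterate {E F : ZMod p → AddSubgroup L} (hE : IsGraded E) (hF : IsIdeal E F) :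
    ∀ m, IsIdeal E (LieFpf.der^[m] F)
  | 0 => hF
  | m + 1 => by rw [Function.iterate_succ_apply']; exact (isIdeal_iterate hE hF m).der hE

theorem der_mono {E E' : ZMod p → AddSubgroup L} (h : E ≤ E') : der E ≤ der E' := act_mono h h

theorem iterate_der_le {E : ZMod p → AddSubgroup L} (hE : IsGraded E) (m : ℕ) : der^[m] E ≤ E :=
  (isIdeal_iterate hE (IsIdeal.refl hE) m).le

/-! ### Kreknin -/

/-- Left normed brackets of homogeneous elements of index exceeding `s`. -/
inductive W (E : ZMod p → AddSubgroup L) (s : ℕ) : ZMod p → L → Prop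
  | gen {i : ZMod p} {x : L} (hi : s < i.val) (hx : x ∈ E i) : W E s i x
  | zero (i : ZMod p) : W E s i 0
  | add {i : ZMod p} {x y : L} (hx : W E s i x) (hy : W E s i y) : W E s i (x + y)
  | neg {i : ZMod p} {x : L} (hx : W E s i x) : W E s i (-x)
  | step {i j : ZMod p} {a g : L} (ha : W E s i a) (hj : s < j.val) (hg : g ∈ E j) : W E s (i + j) ⁅a, g⁆

theorem W.lie {E : ZMod p → AddSubgroup L} {s : ℕ} {j : ZMod p} {b : L} (hb : W E s j b) :
    ∀ {i : ZMod p} {a : L}, W E s i a → W E s (i + j) ⁅a, b⁆ := by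
  induction hb with
  | gen hi hx => exact fun ha => ha.step hi hx
  | zero => intro i a _; rw [lie_zero]; exact W.zero _
  | add _ _ ihx ihy => intro i a ha; rw [lie_add]; exact (ihx ha).add (ihy ha)
  | neg _ ih => intro i a ha; rw [lie_neg]; exact (ih ha).neg
  | @step i' j' a' g _ hj hg ih =>
    intro i a ha
    have e : ⁅a, ⁅a', g⁆⁆ = ⁅⁅a, a'⁆, g⁆ + -⁅⁅a, g⁆, a'⁆ := by
      rw [leibniz_lie, lie_skew]
    rw [e]
    refine W.add ?_ (W.neg ?_)
    · rw [← add_assoc]
      exact (ih ha).step hj hg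
    · rw [show i + (i' + j') = (i + j') + i' by ring]
      exact ih (ha.step hj hg)

variable [NeZero p]

theorem val_pos_of_ne_bot {E : ZMod p → AddSubgroup L} (hE : IsGraded E) {j : ZMod p} {c : L} (hc : c ∈ E j)
    (hj : j.val = 0) : c = 0 := by
  rw [ZMod.val_eq_zero] at hj
  subst hj
  rw [hE.zero] at hc
  exact hc

theorem val_partner {S i j : ZMod p} (h : i + j = S) (hi : S.val < i.val) :
    j.val + i.val = S.val + p := by
  have h1 : p ≤ i.val + j.val := not_lt.1 fun hlt => by
    have := ZMod.val_add_of_lt hlt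
    rw [h] at this
    omega
  have h2 := ZMod.val_add_of_le h1
  rw [h] at h2
  omega

/-- The heart of Kreknin's argument. -/
theorem kreknin_step {E F : ZMod p → AddSubgroup L} (hE : IsGraded E) (hF : IsIdeal E F) {s : ℕ} {S : ZMod p}
    (hS : S.val = s + 1) (hlow : ∀ k : ZMod p, k.val ≤ s → ∀ x ∈ F k, W E s k x) {i j : ZMod p}
    (hij : i + j = S) {u c : L} (hu : u ∈ F i) (hc : c ∈ F j) : W E (s + 1) S ⁅u, c⁆ := by
  have key : ∀ {i : ZMod p} {u : L}, W E s i u → ∀ {j : ZMod p} {c : L}, i + j = S → c ∈ F j →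
      W E (s + 1) S ⁅u, c⁆ := by
    intro i u hu
    induction hu with
    | @gen i x hi hx =>
      intro j c hij hc
      rcases Nat.lt_or_ge (s + 1) i.val with hi' | hi'
      · have hval := val_partner hij (by omega)
        have hj : s + 1 < j.val := by have := i.val_lt; omega
        have := (W.gen (E := E) (s := s + 1) hi' hx).step hj (hF.le j hc)
        rwa [hij] at this
      · have hiS : i = S := ZMod.val_injective p (by omega)
        rw [hiS, add_eq_left] at hij
        rw [val_pos_of_ne_bot hE (hF.le j hc) (by rw [hij, ZMod.val_zero]), lie_zero]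
        exact W.zero _
    | zero => intro j c _ _; rw [zero_lie]; exact W.zero _
    | add _ _ ihx ihy => intro j c hij hc; rw [add_lie]; exact (ihx hij hc).add (ihy hij hc)
    | neg _ ih => intro j c hij hc; rw [neg_lie]; exact (ih hij hc).neg
    | @step i g0 a g ha hg0 hg ih =>
      intro j c hij hc
      rw [lie_lie a g c, sub_eq_add_neg]
      refine W.add (ih (j := g0 + j) (by rw [← hij]; ring) (hF.lie g0 j g hg c hc)) ?_
      -- the term with `g` last
      have haE : ∀ {i : ZMod p} {a : L}, W E s i a → a ∈ E i := by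
        intro i a ha
        induction ha with
        | gen _ hx => exact hx
        | zero => exact zero_mem _
        | add _ _ h1 h2 => exact add_mem h1 h2
        | neg _ h => exact neg_mem h
        | step _ _ hg h => exact hE.lie _ _ _ h _ hg
      have hac : ⁅a, c⁆ ∈ F (i + j) := hF.lie i j a (haE ha) c hc
      rcases Nat.lt_or_ge (s + 1) g0.val with hg' | hg'
      · have hsum : g0 + (i + j) = S := by rw [← hij]; ring
        have hval := val_partner hsum (by omega)
        have ht : s + 1 < (i + j).val := by have := g0.val_lt; omega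
        have := ((W.gen (E := E) (s := s + 1) hg' hg).step ht (hF.le _ hac)).neg
        rwa [hsum] at this
      · have hgS : g0 = S := ZMod.val_injective p (by omega)
        have h0 : i + j = 0 := by
          rw [hgS] at hij
          calc i + j = i + S + j - S := by ring
            _ = 0 := by rw [hij, sub_self]
        rw [val_pos_of_ne_bot hE (hF.le _ hac) (by rw [h0, ZMod.val_zero]), lie_zero, neg_zero]
        exact W.zero _
  rcases Nat.lt_or_ge s i.val with hi | hi
  · exact key (W.gen hi (hF.le i hu)) hij hc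
  · exact key (hlow i hi u hu) hij hc

theorem kreknin : ∀ (s : ℕ), s < p → ∀ (E : ZMod p → AddSubgroup L), IsGraded E →
    ∀ k : ZMod p, k.val ≤ s → ∀ x ∈ (der^[2 ^ s - 1] E) k, W E s k x
  | 0, _, E, hE, k, hk, x, hx => by
    rw [show (2 : ℕ) ^ 0 - 1 = 0 from rfl, Function.iterate_zero_apply] at hx
    rw [val_pos_of_ne_bot hE hx (by omega)]
    exact W.zero _
  | s + 1, hs, E, hE, k, hk, x, hx => by
    set F₁ := der^[2 ^ s - 1] E with hF₁
    set F₂ := der F₁ with hF₂
    have hI₁ : IsIdeal E F₁ := isIdeal_iterate hE (IsIdeal.refl hE) _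
    have hI₂ : IsIdeal E F₂ := hI₁.der hE
    have hG₂ := IsIdeal.graded hE hI₂
    have hsplit : der^[2 ^ (s + 1) - 1] E = der^[2 ^ s - 1] F₂ := by
      have h1 : 1 ≤ 2 ^ s := Nat.one_le_two_pow
      rw [hF₂, hF₁, ← Function.iterate_succ_apply' der, ← Function.iterate_add_apply]
      congr 2
      rw [pow_succ]; omega
    rw [hsplit] at hx
    set S : ZMod p := ((s + 1 : ℕ) : ZMod p) with hSdef
    have hS : S.val = s + 1 := ZMod.val_natCast_of_lt hs
    have hF₂S : ∀ y ∈ F₂ S, W E (s + 1) S y := by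
      intro y hy
      let T : AddSubgroup L :=
        { carrier := {y | W E (s + 1) S y}
          zero_mem' := W.zero _
          add_mem' := W.add
          neg_mem' := W.neg }
      have : F₂ S ≤ T := iSup_le fun i => br_le.2 fun a ha b hb =>
        kreknin_step hE hI₁ hS (kreknin s (by omega) E hE) (add_sub_cancel i S) ha hb
      exact this hy
    rcases Nat.lt_or_ge s k.val with hk' | hk'
    · have hkS : k = S := ZMod.val_injective p (by omega)
      subst hkS
      exact hF₂S x (iterate_der_le hG₂ _ _ hx)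
    · have hW := kreknin s (by omega) F₂ hG₂ k hk' x hx
      clear hk hk' hx
      have key : ∀ {t : ZMod p} {g : L}, s < t.val → g ∈ F₂ t → W E (s + 1) t g := by
        intro t g ht hg
        rcases Nat.lt_or_ge (s + 1) t.val with ht' | ht'
        · exact W.gen ht' (hI₂.le t hg)
        · obtain rfl : t = S := ZMod.val_injective p (by omega)
          exact hF₂S g hg
      induction hW with
      | gen hi hx => exact key hi hx
      | zero => exact W.zero _
      | add _ _ ihx ihy => exact ihx.add ihy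
      | neg _ ih => exact ih.neg
      | step _ hj hg ih => exact (key hj hg).lie ih

theorem kreknin_bot {E : ZMod p → AddSubgroup L} (hE : IsGraded E) :
    der^[2 ^ (p - 1) - 1] E = ⊥ := by
  funext k
  show (der^[2 ^ (p - 1) - 1] E) k = ⊥
  refine eq_bot_iff.2 fun x hx => ?_
  have hp := Nat.pos_of_ne_zero (NeZero.ne p)
  have hk := k.val_lt
  have hW := kreknin (p - 1) (by omega) E hE k (by omega) x hx
  have : ∀ {i : ZMod p} {y : L}, W E (p - 1) i y → y = 0 := by
    intro i y hy
    induction hy with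
    | @gen i _ hi _ => have := i.val_lt; omega
    | zero => rfl
    | add _ _ h1 h2 => rw [h1, h2, add_zero]
    | neg _ h => rw [h, neg_zero]
    | @step _ j _ _ _ hj _ _ => have := j.val_lt; omega
  exact this hW

/-! ### Kostrikin-Kreknin -/

/-- Adding one nonzero residue to a set of residues enlarges it unless it is everything. -/
theorem card_lt_card_union [Fact p.Prime] {S : Finset (ZMod p)} (h0 : (0 : ZMod p) ∈ S) {d : ZMod p} (hd : d ≠ 0)
    (hS : S ≠ Finset.univ) : S.card < (S ∪ S.image (· + d)).card := by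
  refine Finset.card_lt_card (lt_of_le_of_ne Finset.subset_union_left fun h => hS ?_)
  have hcl : ∀ n : ℕ, (n : ZMod p) * d ∈ S := by
    intro n
    induction n with
    | zero => simpa using h0
    | succ n ih =>
      rw [Nat.cast_succ, add_mul, one_mul, h]
      exact Finset.mem_union_right _ (Finset.mem_image_of_mem _ ih)
  refine Finset.eq_univ_of_forall fun x => ?_
  have := hcl (x * d⁻¹).val
  rwa [ZMod.natCast_zmod_val, mul_assoc, inv_mul_cancel₀ hd, mul_one] at this

theorem exists_subperm_sum [Fact p.Prime] {l : List (ZMod p)} (hl : ∀ d ∈ l, d ≠ 0) (hlen : l.length + 1 = p)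
    (t : ZMod p) : ∃ l₁ l₂ : List (ZMod p), l.Perm (l₁ ++ l₂) ∧ l₁.sum = t := by
  classical
  have key : ∀ l : List (ZMod p), (∀ d ∈ l, d ≠ 0) → ∃ S : Finset (ZMod p), (0 : ZMod p) ∈ S ∧
      min p (l.length + 1) ≤ S.card ∧ ∀ t ∈ S, ∃ l₁ l₂ : List (ZMod p), l.Perm (l₁ ++ l₂) ∧ l₁.sum = t := by
    intro l hl
    induction l with
    | nil =>
      exact ⟨{0}, by simp, by simp, fun t ht => ⟨[], [], by simp, by simpa [eq_comm] using ht⟩⟩
    | cons d l ih =>
      obtain ⟨S, h0, hc, hmem⟩ := ih fun e he => hl e (List.mem_cons_of_mem _ he)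
      refine ⟨S ∪ S.image (· + d), Finset.mem_union_left _ h0, ?_, fun t ht => ?_⟩
      · by_cases hS : S = Finset.univ
        · subst hS
          rw [Finset.union_eq_left.2 (Finset.subset_univ _), Finset.card_univ, ZMod.card]
          exact min_le_left _ _
        · have := card_lt_card_union h0 (hl d List.mem_cons_self) hS
          rw [List.length_cons]
          omega
      · rcases Finset.mem_union.1 ht with ht | ht
        · obtain ⟨l₁, l₂, hp, hs⟩ := hmem t ht
          exact ⟨l₁, d :: l₂, (hp.cons d).trans List.perm_middle.symm, hs⟩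
        · obtain ⟨t', ht', rfl⟩ := Finset.mem_image.1 ht
          obtain ⟨l₁, l₂, hp, hs⟩ := hmem t' ht'
          exact ⟨d :: l₁, l₂, hp.cons d, by rw [List.sum_cons, hs, add_comm]⟩
  obtain ⟨S, -, hc, hmem⟩ := key l hl
  have hS : S = Finset.univ := by
    refine Finset.eq_univ_of_card S (le_antisymm (Finset.card_le_univ S) ?_)
    rw [ZMod.card]; omega
  exact hmem t (hS ▸ Finset.mem_univ t)

/-- The word `[…[[v, x₁], x₂], …]`. -/
def word (v : L) (w : List (ZMod p × L)) : L := w.foldl (fun a q => ⁅a, q.2⁆) v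

theorem word_zero : ∀ w : List (ZMod p × L), word (0 : L) w = 0
  | [] => rfl
  | q :: w => by show word ⁅(0 : L), q.2⁆ w = 0; rw [zero_lie]; exact word_zero w

theorem word_sub : ∀ (w : List (ZMod p × L)) (a b : L), word (a - b) w = word a w - word b w
  | [], a, b => rfl
  | q :: w, a, b => by
    show word ⁅a - b, q.2⁆ w = word ⁅a, q.2⁆ w - word ⁅b, q.2⁆ w
    rw [sub_lie]; exact word_sub w _ _

theorem word_append (v : L) (w w' : List (ZMod p × L)) : word v (w ++ w') = word (word v w) w' :=
  List.foldl_append ..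

/-- The sum of the indices of a word. -/
def deg (w : List (ZMod p × L)) : ZMod p := (w.map Prod.fst).sum

theorem word_mem {V D : ZMod p → AddSubgroup L} (hV : act V D ≤ V) : ∀ (w : List (ZMod p × L)) {k : ZMod p} {v : L},
    v ∈ V k → (∀ q ∈ w, q.2 ∈ D q.1) → word v w ∈ V (k + deg w)
  | [], k, v, hv, _ => by simpa [word, deg] using hv
  | q :: w, k, v, hv, hw => by
    have := word_mem hV w (act_le.1 hV k q.1 v hv q.2 (hw q List.mem_cons_self))
      fun r hr => hw r (List.mem_cons_of_mem _ hr)
    simpa [word, deg, add_assoc] using this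

theorem word_perm {V D U : ZMod p → AddSubgroup L} (hV : act V D ≤ V) (hU : act U D ≤ U)
    (hswap : ∀ i a b, ∀ v ∈ V i, ∀ x ∈ D a, ∀ y ∈ D b, ⁅v, ⁅x, y⁆⁆ ∈ U (i + (a + b)))
    {w w' : List (ZMod p × L)} (h : w.Perm w') : ∀ {k : ZMod p} {v : L}, v ∈ V k → (∀ q ∈ w, q.2 ∈ D q.1) →
      word v w - word v w' ∈ U (k + deg w) := by
  induction h with
  | nil => intro k v _ _; rw [sub_self]; exact zero_mem _
  | @cons q l₁ l₂ _ ih =>
    intro k v hv hw
    have := ih (act_le.1 hV k q.1 v hv q.2 (hw q List.mem_cons_self)) fun r hr => hw r (List.mem_cons_of_mem _ hr)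
    simpa [word, deg, add_assoc] using this
  | swap q r l =>
    intro k v hv hw
    show word ⁅⁅v, r.2⁆, q.2⁆ l - word ⁅⁅v, q.2⁆, r.2⁆ l ∈ _
    rw [← word_sub]
    have e : ⁅⁅v, r.2⁆, q.2⁆ - ⁅⁅v, q.2⁆, r.2⁆ = ⁅v, ⁅r.2, q.2⁆⁆ := by
      rw [leibniz_lie, ← lie_skew r.2 ⁅v, q.2⁆, sub_eq_add_neg]
    rw [e]
    have := word_mem hU l (hswap k r.1 q.1 v hv r.2 (hw r List.mem_cons_self) q.2
      (hw q (List.mem_cons_of_mem _ List.mem_cons_self))) fun t ht => hw t (List.mem_cons_of_mem _ (List.mem_cons_of_mem _ ht))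
    simpa [deg, add_assoc] using this
  | @trans l₁ l₂ l₃ h₁ _ ih₁ ih₂ =>
    intro k v hv hw
    have h2 := ih₂ hv fun r hr => hw r (h₁.mem_iff.2 hr)
    have hd : deg l₂ = deg l₁ := by simp only [deg]; exact ((h₁.map _).sum_eq).symm
    rw [hd] at h2
    simpa [sub_add_sub_cancel] using add_mem (ih₁ hv hw) h2

theorem iterate_act_mono {V V' D : ZMod p → AddSubgroup L} (h : V ≤ V') :
    ∀ n, (fun X => act X D)^[n] V ≤ (fun X => act X D)^[n] V'
  | 0 => h
  | n + 1 => by
    rw [Function.iterate_succ_apply', Function.iterate_succ_apply']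
    exact act_mono (iterate_act_mono h n) le_rfl

/-- `D'` containing the brackets of `D` absorbs `p - 1` steps along `D`. -/
theorem kostrikin_step [Fact p.Prime] {E V D D' : ZMod p → AddSubgroup L} (hE : IsGraded E) (hVE : V ≤ E)
    (hDE : D ≤ E) (hV : act V D ≤ V) (hU : act (act V D') D ≤ act V D') (hD' : act D D ≤ D') :
    (fun X => act X D)^[p - 1] V ≤ act V D' := by
  -- spanned by words
  have hspan : ∀ n, (fun X => act X D)^[n] V ≤ fun k => AddSubgroup.closure
      {x | ∃ (i : ZMod p) (v : L) (w : List (ZMod p × L)), v ∈ V i ∧ w.length = n ∧ (∀ q ∈ w, q.2 ∈ D q.1) ∧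
        i + deg w = k ∧ word v w = x} := by
    intro n
    induction n with
    | zero =>
      intro k x hx
      exact AddSubgroup.subset_closure ⟨k, x, [], hx, rfl, by simp, by simp [deg], rfl⟩
    | succ n ih =>
      rw [Function.iterate_succ_apply']
      refine act_le.2 fun i j a ha b hb => ?_
      have ha' := ih i ha
      clear ha
      induction ha' using AddSubgroup.closure_induction with
      | mem x hx =>
        obtain ⟨i', v, w, hv, hwl, hw, hk, rfl⟩ := hx
        refine AddSubgroup.subset_closure ⟨i', v, w ++ [(j, b)], hv, by simp [hwl], ?_, ?_, ?_⟩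
        · intro q hq
          rcases List.mem_append.1 hq with hq | hq
          · exact hw q hq
          · rw [List.mem_singleton] at hq; subst hq; exact hb
        · rw [← hk]
          simp [deg, add_assoc]
        · rw [word_append]; rfl
      | zero => rw [zero_lie]; exact zero_mem _
      | add x y _ _ hx hy => rw [add_lie]; exact add_mem hx hy
      | neg x _ hx => rw [neg_lie]; exact neg_mem hx
  have hswap : ∀ i a b, ∀ v ∈ V i, ∀ x ∈ D a, ∀ y ∈ D b, ⁅v, ⁅x, y⁆⁆ ∈ act V D' (i + (a + b)) :=
    fun i a b v hv x hx y hy => lie_mem_act hv (hD' (a + b) (lie_mem_act hx hy))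
  intro k x hx
  have hx' := hspan _ k hx
  clear hx
  induction hx' using AddSubgroup.closure_induction with
  | mem x hx =>
    obtain ⟨i, v, w, hv, hwl, hw, rfl, rfl⟩ := hx
    by_cases h0 : ∃ q ∈ w, q.1 = 0
    · obtain ⟨q, hq, hq0⟩ := h0
      obtain ⟨w₁, w₂, rfl⟩ := List.append_of_mem hq
      have hq2 : q.2 = 0 := by
        have := hDE _ (hw q hq)
        rw [hq0, hE.zero] at this
        exact this
      rw [word_append]
      show word ⁅word v w₁, q.2⁆ w₂ ∈ _
      rw [hq2, lie_zero, word_zero]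
      exact zero_mem _
    push Not at h0
    have hp := (Fact.out : p.Prime).one_lt
    obtain ⟨d₁, d₂, hperm, hsum⟩ := exists_subperm_sum (l := w.map Prod.fst)
      (fun d hd => by obtain ⟨q, hq, rfl⟩ := List.mem_map.1 hd; exact h0 q hq)
      (by rw [List.length_map, hwl]; omega) (-i)
    obtain ⟨w', hw', hmap⟩ : ∃ w', w.Perm w' ∧ w'.map Prod.fst = d₁ ++ d₂ := by
      clear hwl hw hv hsum h0
      generalize hl : d₁ ++ d₂ = l at hperm
      clear hl
      generalize hm : w.map Prod.fst = m at hperm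
      induction hperm generalizing w with
      | nil => exact ⟨w, List.Perm.refl _, hm⟩
      | cons d _ ih =>
        obtain ⟨q, w₀, rfl, hq, hm₀⟩ := List.map_eq_cons_iff.1 hm
        obtain ⟨w₁, h₁, h₁'⟩ := ih w₀ hm₀
        exact ⟨q :: w₁, h₁.cons q, by simp [hq, h₁']⟩
      | swap a b l =>
        obtain ⟨q, w₀, rfl, hq, hm₀⟩ := List.map_eq_cons_iff.1 hm
        obtain ⟨r, w₁, rfl, hr, hm₁⟩ := List.map_eq_cons_iff.1 hm₀
        exact ⟨r :: q :: w₁, List.Perm.swap r q w₁, by simp [hq, hr, hm₁]⟩
      | trans _ _ ih₁ ih₂ =>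
        obtain ⟨w₁, h₁, h₁'⟩ := ih₁ w hm
        obtain ⟨w₂, h₂, h₂'⟩ := ih₂ w₁ h₁'
        exact ⟨w₂, h₁.trans h₂, h₂'⟩
    obtain ⟨u₁, u₂, rfl, hu₁, -⟩ := List.map_eq_append_iff.1 hmap
    have hdiff := word_perm hV hU hswap hw' hv hw
    have hzero : word v (u₁ ++ u₂) = 0 := by
      have h := hVE _ (word_mem hV u₁ hv fun q hq => hw q (hw'.mem_iff.2 (List.mem_append_left _ hq)))
      rw [deg, hu₁, hsum, add_neg_cancel, hE.zero] at h
      rw [word_append, show word v u₁ = 0 from h, word_zero]
    rwa [hzero, sub_zero] at hdiff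
  | zero => exact zero_mem _
  | add x y _ _ hx hy => exact add_mem hx hy
  | neg x _ hx => exact neg_mem hx

/-- The weight bound: `J - j` levels cost `(p-1)^(J-j)` steps. -/
theorem kostrikin [Fact p.Prime] {E : ZMod p → AddSubgroup L} (hE : IsGraded E) (J : ℕ) :
    (fun X => act X E)^[(p - 1) ^ J] (der^[J] E) ≤ der^[J + 1] E := by
  set D : ℕ → ZMod p → AddSubgroup L := fun j => der^[j] E with hD
  have hI : ∀ j, IsIdeal E (D j) := fun j => isIdeal_iterate hE (IsIdeal.refl hE) j
  have hact : ∀ j i {V : ZMod p → AddSubgroup L}, act V (D i) ≤ V → V ≤ E → act (act V (D j)) (D i) ≤ act V (D j) := by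
    intro j i V hV hVE
    refine act_le.2 fun a b x hx y hy => ?_
    have key : act V (D j) ≤ fun k => (act V (D j) (k + b)).comap (AddMonoidHom.mk' (fun x => ⁅x, y⁆) fun u v => add_lie u v y) := by
      refine act_le.2 fun k l u hu v hv => ?_
      show ⁅⁅u, v⁆, y⁆ ∈ act V (D j) (k + l + b)
      rw [lie_lie, sub_eq_add_neg, add_assoc]
      refine add_mem (lie_mem_act hu ((hI j).lie_right hv ((hI i).le b hy))) ?_
      rw [show k + (l + b) = (k + b) + l by ring, lie_skew]
      exact lie_mem_act (act_le.1 hV k b u hu y hy) hv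
    exact key a hx
  have main : ∀ d j, j + d = J → ∀ V : ZMod p → AddSubgroup L, V ≤ D J → (∀ i, act V (D i) ≤ V) →
      (fun X => act X (D j))^[(p - 1) ^ d] V ≤ D (J + 1) := by
    intro d
    induction d with
    | zero =>
      intro j hj V hV _
      rw [pow_zero, Function.iterate_one]
      obtain rfl : j = J := by omega
      show act V (D j) ≤ _
      simp only [hD, Function.iterate_succ_apply']
      exact act_mono hV le_rfl
    | succ d ih =>
      intro j hj V hV hVinv
      have hder : act (D j) (D j) ≤ D (j + 1) := by simp only [hD, Function.iterate_succ_apply']; exact le_rfl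
      have hn : ∀ t, (fun X => act X (D j))^[(p - 1) * t] V ≤ (fun X => act X (D (j + 1)))^[t] V ∧
          (fun X => act X (D (j + 1)))^[t] V ≤ D J ∧ ∀ i, act ((fun X => act X (D (j + 1)))^[t] V) (D i) ≤ (fun X => act X (D (j + 1)))^[t] V := by
        intro t
        induction t with
        | zero =>
          rw [mul_zero, Function.iterate_zero_apply, Function.iterate_zero_apply]
          exact ⟨le_rfl, hV, hVinv⟩
        | succ t iht =>
          obtain ⟨h1, h2, h3⟩ := iht
          set Y := (fun X => act X (D (j + 1)))^[t] V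
          have hYE : Y ≤ E := h2.trans (hI J).le
          refine ⟨?_, ?_, ?_⟩
          · rw [show (p - 1) * (t + 1) = (p - 1) + (p - 1) * t by ring, Function.iterate_add_apply,
              Function.iterate_succ_apply']
            exact (iterate_act_mono h1 _).trans
              (kostrikin_step hE hYE (hI j).le (h3 j) (hact (j + 1) j (h3 j) hYE) hder)
          · rw [Function.iterate_succ_apply']
            exact (h3 (j + 1)).trans h2
          · intro i
            rw [Function.iterate_succ_apply']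
            exact hact (j + 1) i (h3 i) hYE
      rw [pow_succ']
      exact (hn _).1.trans (ih (j + 1) (by omega) V hV hVinv)
  refine main J 0 (zero_add J) (D J) le_rfl fun i => ?_
  exact act_le.2 fun a b x hx y hy => (hI J).lie_right hx ((hI i).le b hy)

/-- Nilpotency class bound for a graded Lie ring. -/
theorem class_bound [Fact p.Prime] {E : ZMod p → AddSubgroup L} (hE : IsGraded E) :
    (fun X => act X E)^[Finset.sum (Finset.range (2 ^ (p - 1) - 1)) (fun i => (p - 1) ^ i)] E = ⊥ := by
  have key : ∀ J, (fun X => act X E)^[Finset.sum (Finset.range J) (fun i => (p - 1) ^ i)] E ≤ der^[J] E := by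
    intro J
    induction J with
    | zero => rw [Finset.sum_range_zero, Function.iterate_zero_apply, Function.iterate_zero_apply]
    | succ J ih =>
      rw [Finset.sum_range_succ, add_comm, Function.iterate_add_apply]
      exact (iterate_act_mono ih _).trans (kostrikin hE J)
  exact le_bot_iff.1 ((key _).trans (kreknin_bot hE).le)

/-- For `p = 3` the class is at most two. -/
theorem class_two {E : ZMod 3 → AddSubgroup L} (hE : IsGraded E) : (fun X => act X E)^[2] E = ⊥ := by
  show act (act E E) E = ⊥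
  refine le_bot_iff.1 (act_le.2 fun i j a ha b hb => ?_)
  show ⁅a, b⁆ ∈ (⊥ : AddSubgroup L)
  have key : act E E ≤ fun k => if k = j then (⊥ : AddSubgroup L).comap (AddMonoidHom.mk' (fun x => ⁅x, b⁆) fun u v => add_lie u v b)
      else E k := by
    refine act_le.2 fun k l x hx y hy => ?_
    by_cases h : k + l = j
    · simp only [h, if_true]
      show ⁅⁅x, y⁆, b⁆ ∈ (⊥ : AddSubgroup L)
      by_cases hk : k = 0
      · subst hk; rw [hE.zero, AddSubgroup.mem_bot] at hx; subst hx; simp
      by_cases hl : l = 0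
      · subst hl; rw [hE.zero, AddSubgroup.mem_bot] at hy; subst hy; simp
      have hkl : ∀ k l : ZMod 3, k ≠ 0 → l ≠ 0 → (k + l ≠ 0 → k = l ∧ k + (k + l) = 0 ∧ l + (k + l) = 0) := by decide
      by_cases hs : k + l = 0
      · have h1 := hE.lie k l x hx y hy
        rw [hs, hE.zero, AddSubgroup.mem_bot] at h1
        rw [h1, zero_lie]; exact zero_mem _
      obtain ⟨-, hk0, hl0⟩ := hkl k l hk hl hs
      rw [h] at hk0 hl0
      have e1 := hE.lie k j x hx b hb
      have e2 := hE.lie l j y hy b hb
      rw [hk0, hE.zero, AddSubgroup.mem_bot] at e1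
      rw [hl0, hE.zero, AddSubgroup.mem_bot] at e2
      rw [lie_lie, e1, e2, lie_zero, lie_zero, sub_zero]
      exact zero_mem _
    · simp only [h, if_false]
      exact hE.lie k l x hx y hy
  by_cases hij : i = j
  · have := key i ha
    simp only [hij, if_true] at this
    exact this
  · have ha' : a ∈ E i := hE.der_le i ha
    by_cases hi : i = 0
    · subst hi; rw [hE.zero, AddSubgroup.mem_bot] at ha'; subst ha'; simp
    by_cases hj : j = 0
    · subst hj; rw [hE.zero, AddSubgroup.mem_bot] at hb; subst hb; simp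
    have hz : ∀ i j : ZMod 3, i ≠ 0 → j ≠ 0 → i ≠ j → i + j = 0 := by decide
    have h1 := hE.lie i j a ha' b hb
    rwa [hz i j hi hj hij, hE.zero] at h1

end Cfsg.Lib.LieFpf
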