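/-
A Lie ring with a fixed-point-free automorphism of prime order embeds in a graded Lie ring.
-/
import Cfsg.Agent.LieFpf.Graded
import Mathlib.Algebra.Lie.BaseChange
import Mathlib.Algebra.Lie.OfAssociative
import Mathlib.RingTheory.AdjoinRoot
import Mathlib.RingTheory.Polynomial.Cyclotomic.Basic
import Mathlib.LinearAlgebra.TensorProduct.Basis

set_option linter.unusedSectionVars false

open scoped TensorProduct


namespace Cfsg.Lib.LieFpf

/-- The descending sequence of left normed products. -/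
def lowerSeq (L : Type*) [LieRing L] (t : ℕ) : AddSubgroup L := (fun A => br A ⊤)^[t] ⊤

theorem lowerSeq_succ (L : Type*) [LieRing L] (t : ℕ) : lowerSeq L (t + 1) = br (lowerSeq L t) ⊤ :=
  Function.iterate_succ_apply' _ _ _

theorem lie_mem_iSup {M : Type*} [LieRing M] {p : ℕ} {V D : ZMod p → AddSubgroup M} {x y : M}
    (hx : x ∈ ⨆ k, V k) (hy : y ∈ ⨆ k, D k) : ⁅x, y⁆ ∈ ⨆ k, act V D k := by
  refine AddSubgroup.iSup_induction V (C := fun x => ⁅x, y⁆ ∈ ⨆ k, act V D k) hx ?_ ?_ ?_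
  · intro i x hx
    refine AddSubgroup.iSup_induction D (C := fun y => ⁅x, y⁆ ∈ ⨆ k, act V D k) hy ?_ ?_ ?_
    · exact fun j y hy => AddSubgroup.mem_iSup_of_mem (i + j) (lie_mem_act hx hy)
    · rw [lie_zero]; exact zero_mem _
    · intro a b ha hb; rw [lie_add]; exact add_mem ha hb
  · rw [zero_lie]; exact zero_mem _
  · intro a b ha hb; rw [add_lie]; exact add_mem ha hb

section Generic

variable {L : Type*} [LieRing L] {R : Type*} [CommRing R] {p : ℕ} [Fact p.Prime]

theorem tmul_lie (r s : R) (l k : L) : ⁅r ⊗ₜ[ℤ] l, s ⊗ₜ[ℤ] k⁆ = (r * s) ⊗ₜ[ℤ] ⁅l, k⁆ := rfl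

/-- The character `i ↦ ζ ^ i`. -/
def chi (ζ : R) (i : ZMod p) : R := ζ ^ i.val

theorem chi_add {ζ : R} (hζ : ζ ^ p = 1) (i j : ZMod p) : chi ζ (i + j) = chi ζ i * chi ζ j := by
  rw [chi, chi, chi, ← pow_add, ZMod.val_add, ← pow_eq_pow_mod _ hζ]

theorem sum_chi_mul {ζ : R} (hsum : ∑ i ∈ Finset.range p, ζ ^ i = 0) {k : ZMod p} (hk : k ≠ 0) :
    ∑ i : ZMod p, chi ζ (i * k) = 0 := by
  have h1 : ∑ i : ZMod p, chi ζ (i * k) = ∑ i : ZMod p, chi ζ i :=
    Equiv.sum_comp (Equiv.mulRight₀ k hk) (chi ζ)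
  rw [h1, ← hsum]
  refine Finset.sum_bij' (fun i _ => i.val) (fun n _ => (n : ZMod p)) ?_ ?_ ?_ ?_ ?_
  · exact fun i _ => Finset.mem_range.2 i.val_lt
  · exact fun n _ => Finset.mem_univ _
  · exact fun i _ => ZMod.natCast_zmod_val i
  · exact fun n hn => ZMod.val_natCast_of_lt (Finset.mem_range.1 hn)
  · exact fun i _ => rfl

theorem lowerSeq_eq_bot_aux {M : Type*} [LieRing M] [LieAlgebra R M] {ζ : R} (hζ : ζ ^ p = 1)
    (hsum : ∑ i ∈ Finset.range p, ζ ^ i = 0) (A : M →ₗ[R] M) (hAlie : ∀ x y, A ⁅x, y⁆ = ⁅A x, A y⁆)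
    (hApow : ∀ x, A^[p] x = x) (hAfix : ∀ x, A x = x → x = 0) (m : ℕ) (hmM : ∀ x : M, (m * p) • x = x)
    (j : L →+ M) (hj : ∀ x y, j ⁅x, y⁆ = ⁅j x, j y⁆) (n : ℕ)
    (hn : ∀ E : ZMod p → AddSubgroup M, IsGraded E → (fun X => act X E)^[n] E = ⊥) :
    ∀ l ∈ lowerSeq L n, j l = 0 := by
  have hper : ∀ (j : ℕ) (x), A^[j] x = A^[j % p] x := by
    intro j x
    conv_lhs => rw [← Nat.mod_add_div j p, Function.iterate_add_apply, Function.iterate_mul]
    rw [Function.iterate_fixed (hApow x)]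
  -- the eigenspaces
  let E : ZMod p → AddSubgroup (M) := fun i =>
    AddMonoidHom.eqLocus A.toAddMonoidHom (DistribSMul.toAddMonoidHom _ (chi ζ i))
  have hmem : ∀ {i : ZMod p} {x}, x ∈ E i ↔ A x = chi ζ i • x := Iff.rfl
  have hE : IsGraded E := by
    refine ⟨le_bot_iff.1 fun x hx => ?_, fun i j a ha b hb => ?_⟩
    · rw [hmem, chi, ZMod.val_zero, pow_zero, one_smul] at hx
      exact hAfix x hx
    · rw [hmem] at ha hb ⊢
      rw [hAlie, ha, hb, smul_lie, lie_smul, smul_smul, chi_add hζ]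
  have hspan : ∀ x : M, x ∈ ⨆ k, E k := by
    intro x
    let e : ZMod p → M := fun i => m • ∑ k : ZMod p, chi ζ (-(i * k)) • A^[k.val] x
    have he : ∀ i, e i ∈ E i := by
      intro i
      rw [hmem]
      simp only [e]
      rw [map_nsmul, map_sum, smul_comm (chi ζ i) m, Finset.smul_sum (r := chi ζ i)]
      congr 1
      simp only [map_smul]
      calc ∑ k : ZMod p, chi ζ (-(i * k)) • A (A^[k.val] x)
          = ∑ k : ZMod p, chi ζ i • chi ζ (-(i * (k + 1))) • A^[(k + 1).val] x := by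
            refine Finset.sum_congr rfl fun k _ => ?_
            rw [smul_smul, ← chi_add hζ, ← Function.iterate_succ_apply' (⇑A), hper (k.val + 1), ZMod.val_add,
              ZMod.val_one]
            congr 2
            ring
        _ = ∑ k : ZMod p, chi ζ i • chi ζ (-(i * k)) • A^[k.val] x :=
            Fintype.sum_equiv (Equiv.addRight (1 : ZMod p)) _ _ fun k => by simp only [Equiv.coe_addRight]
    have hs : ∑ i, e i = x := by
      simp only [e, ← Finset.smul_sum]
      rw [Finset.sum_comm]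
      simp only [← Finset.sum_smul]
      rw [Finset.sum_eq_single (0 : ZMod p) (fun k _ hk => by
          simp only [← mul_neg]
          rw [sum_chi_mul hsum (neg_ne_zero.2 hk), zero_smul]) (fun h => absurd (Finset.mem_univ _) h)]
      simp only [mul_zero, neg_zero, ZMod.val_zero, chi, pow_zero, Finset.sum_const, Finset.card_univ, ZMod.card,
        Function.iterate_zero_apply]
      rw [smul_assoc, one_smul, smul_smul]
      exact hmM x
    rw [← hs]
    exact sum_mem fun i _ => AddSubgroup.mem_iSup_of_mem i (he i)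
  -- the series is mapped into the graded series
  have key : ∀ (t : ℕ) (l : L), l ∈ lowerSeq L t → j l ∈ ⨆ k, ((fun X => act X E)^[t] E) k := by
    intro t
    induction t with
    | zero => exact fun l _ => hspan _
    | succ t ih =>
      have hle : lowerSeq L (t + 1) ≤ (⨆ k, ((fun X => act X E)^[t + 1] E) k).comap
          j := by
        rw [lowerSeq_succ]
        refine br_le.2 fun a ha c _ => ?_
        rw [Function.iterate_succ_apply']
        rw [AddSubgroup.mem_comap, hj]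
        exact lie_mem_iSup (ih a ha) (hspan _)
      exact fun l hl => hle hl
  intro l hl
  have h := key n l hl
  rw [hn E hE] at h
  simpa [Pi.bot_apply, iSup_bot, AddSubgroup.mem_bot] using h

theorem lowerSeq_eq_bot {ζ : R} (hζ : ζ ^ p = 1) (hsum : ∑ i ∈ Finset.range p, ζ ^ i = 0)
    {b : Type*} (B : Module.Basis b ℤ R) (φ : R →ₗ[ℤ] ℤ) (hφ : φ 1 = 1) (f : L →+ L)
    (hflie : ∀ x y, f ⁅x, y⁆ = ⁅f x, f y⁆) (hfp : ∀ x, f^[p] x = x) (hfix : ∀ x, f x = x → x = 0)
    (m : ℕ) (hm : ∀ x : L, (m * p) • x = x) (n : ℕ)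
    (hn : ∀ E : ZMod p → AddSubgroup (R ⊗[ℤ] L), IsGraded E → (fun X => act X E)^[n] E = ⊥) :
    lowerSeq L n = ⊥ := by
  let A : R ⊗[ℤ] L →ₗ[R] R ⊗[ℤ] L := f.toIntLinearMap.baseChange R
  have hA : ∀ (r : R) (l : L), A (r ⊗ₜ l) = r ⊗ₜ f l := fun r l => LinearMap.baseChange_tmul _ _ _
  have z1 : ∀ x : R ⊗[ℤ] L, ⁅x, (0 : R ⊗[ℤ] L)⁆ = 0 := fun x => lie_zero x
  have z2 : ∀ x : R ⊗[ℤ] L, ⁅(0 : R ⊗[ℤ] L), x⁆ = 0 := fun x => zero_lie x
  have d1 : ∀ x y z : R ⊗[ℤ] L, ⁅x, y + z⁆ = ⁅x, y⁆ + ⁅x, z⁆ := fun x y z => lie_add x y z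
  have d2 : ∀ x y z : R ⊗[ℤ] L, ⁅x + y, z⁆ = ⁅x, z⁆ + ⁅y, z⁆ := fun x y z => add_lie x y z
  have hAlie : ∀ x y, A ⁅x, y⁆ = ⁅A x, A y⁆ := by
    intro x y
    induction x using TensorProduct.induction_on with
    | zero => rw [z2, map_zero, z2]
    | add u v hu hv => rw [d2, map_add, map_add, hu, hv, d2]
    | tmul r l =>
      induction y using TensorProduct.induction_on with
      | zero => rw [z1, map_zero, z1]
      | add u v hu hv => rw [d1, map_add, map_add, hu, hv, d1]
      | tmul s k => rw [tmul_lie, hA, hA, hA, tmul_lie, hflie]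
  have hApow : ∀ x, A^[p] x = x := by
    intro x
    induction x using TensorProduct.induction_on with
    | zero => exact iterate_map_zero A p
    | add u v hu hv => rw [iterate_map_add, hu, hv]
    | tmul r l =>
      have h : ∀ j, A^[j] (r ⊗ₜ l) = r ⊗ₜ f^[j] l := by
        intro j
        induction j with
        | zero => rfl
        | succ j ih => rw [Function.iterate_succ_apply', ih, hA, Function.iterate_succ_apply']
      rw [h, hfp]
  have hAfix : ∀ x, A x = x → x = 0 := by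
    intro x hx
    classical
    apply (TensorProduct.equivFinsuppOfBasisLeft B (N := L)).injective
    rw [map_zero]
    refine Finsupp.ext fun i => ?_
    have hnat : ∀ y : R ⊗[ℤ] L, TensorProduct.equivFinsuppOfBasisLeft B (A y) i =
        f (TensorProduct.equivFinsuppOfBasisLeft B y i) := by
      intro y
      induction y using TensorProduct.induction_on with
      | zero => simp
      | add u v hu hv => simp only [map_add, Finsupp.add_apply, hu, hv]
      | tmul r l => rw [hA, TensorProduct.equivFinsuppOfBasisLeft_apply_tmul_apply,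
          TensorProduct.equivFinsuppOfBasisLeft_apply_tmul_apply, map_zsmul]
    refine hfix _ ?_
    rw [← hnat, hx]
  have hmM : ∀ x : R ⊗[ℤ] L, (m * p) • x = x := by
    intro x
    induction x using TensorProduct.induction_on with
    | zero => simp
    | add u v hu hv => rw [smul_add, hu, hv]
    | tmul r l => rw [← TensorProduct.tmul_smul, hm]
  refine le_bot_iff.1 fun l hl => ?_
  have h := lowerSeq_eq_bot_aux (M := R ⊗[ℤ] L) hζ hsum A hAlie hApow hAfix m hmM
    (TensorProduct.mk ℤ R L 1).toAddMonoidHom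
    (fun x y => by
      show (1 : R) ⊗ₜ[ℤ] ⁅x, y⁆ = ⁅(1 : R) ⊗ₜ[ℤ] x, (1 : R) ⊗ₜ[ℤ] y⁆
      rw [tmul_lie, one_mul])
    n hn l hl
  have := congrArg (fun z => TensorProduct.lid ℤ L (φ.rTensor L z)) h
  simpa [hφ] using this

end Generic

/-- The general bound. -/
theorem lowerSeq_class {L : Type*} [LieRing L] {p : ℕ} [Fact p.Prime] (f : L →+ L)
    (hflie : ∀ x y, f ⁅x, y⁆ = ⁅f x, f y⁆) (hfp : ∀ x, f^[p] x = x) (hfix : ∀ x, f x = x → x = 0)
    (m : ℕ) (hm : ∀ x : L, (m * p) • x = x) (n : ℕ)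
    (hn : ∀ E : ZMod p → AddSubgroup (AdjoinRoot (Polynomial.cyclotomic p ℤ) ⊗[ℤ] L),
      IsGraded E → (fun X => act X E)^[n] E = ⊥) :
    lowerSeq L n = ⊥ := by
  have hp := (Fact.out : p.Prime)
  set g := Polynomial.cyclotomic p ℤ with hg
  have hmon : g.Monic := Polynomial.cyclotomic.monic p ℤ
  have hroot : Polynomial.aeval (AdjoinRoot.root g) g = 0 := by rw [AdjoinRoot.aeval_eq, AdjoinRoot.mk_self]
  have hζ : AdjoinRoot.root g ^ p = 1 := by
    obtain ⟨q, hq⟩ := Polynomial.cyclotomic.dvd_X_pow_sub_one p ℤ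
    have := congrArg (Polynomial.aeval (AdjoinRoot.root g)) hq
    rw [map_mul, hroot, zero_mul, map_sub, map_pow, Polynomial.aeval_X, map_one, sub_eq_zero] at this
    exact this
  have hsum : ∑ i ∈ Finset.range p, AdjoinRoot.root g ^ i = 0 := by
    have := hroot
    conv at this => lhs; arg 2; rw [hg, Polynomial.cyclotomic_prime]
    rw [map_sum] at this
    simpa using this
  let φ : AdjoinRoot g →ₗ[ℤ] ℤ := (Polynomial.lcoeff ℤ 0).comp (AdjoinRoot.modByMonicHom hmon)
  have hφ : φ 1 = 1 := by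
    have h1 : AdjoinRoot.modByMonicHom hmon 1 = 1 := by
      rw [← map_one (AdjoinRoot.mk g), AdjoinRoot.modByMonicHom_mk hmon, Polynomial.modByMonic_eq_self_iff hmon,
        Polynomial.degree_one, hg, Polynomial.degree_cyclotomic]
      exact_mod_cast Nat.totient_pos.2 hp.pos
    show Polynomial.coeff (AdjoinRoot.modByMonicHom hmon 1) 0 = 1
    rw [h1, Polynomial.coeff_one_zero]
  exact lowerSeq_eq_bot hζ hsum (AdjoinRoot.powerBasis' hmon).basis φ hφ f hflie hfp hfix m hm n
    hn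

end Cfsg.Lib.LieFpf
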