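/-
A Lie ring with an automorphism of prime order whose fixed points are killed by an integer: the lower
central terms beyond the Higman-Kreknin-Kostrikin bound have bounded exponent.
-/
import Cfsg.Agent.LieFpf.Eigen
import Cfsg.Agent.LieFpf.AssocLie

set_option linter.unusedSectionVars false

open scoped TensorProduct commutatorElement

namespace Cfsg.Lib.LieFpf

section Twisted

variable {L : Type*} [LieRing L] {R : Type*} [CommRing R] {p : ℕ} [Fact p.Prime]

theorem lowerSeq_smul_aux {M : Type*} [LieRing M] [LieAlgebra R M] {ζ : R} (hζ : ζ ^ p = 1)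
    (hsum : ∑ i ∈ Finset.range p, ζ ^ i = 0) (A : M →ₗ[R] M) (hAlie : ∀ x y, A ⁅x, y⁆ = ⁅A x, A y⁆)
    (hApow : ∀ x, A^[p] x = x) (c : ℕ) (hAfix : ∀ x, A x = x → c • x = 0)
    (j : L →+ M) (hj : ∀ x y, j ⁅x, y⁆ = ⁅j x, j y⁆) (n : ℕ)
    (hn : ∀ E : ZMod p → AddSubgroup M, IsGraded E → (fun X => act X E)^[n] E = ⊥) :
    ∀ l ∈ lowerSeq L n, (c * p) ^ (n + 1) • j l = 0 := by
  have hper : ∀ (j : ℕ) (x), A^[j] x = A^[j % p] x := by
    intro j x
    conv_lhs => rw [← Nat.mod_add_div j p, Function.iterate_add_apply, Function.iterate_mul]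
    rw [Function.iterate_fixed (hApow x)]
  -- `c` times the eigenspaces
  let E : ZMod p → AddSubgroup (M) := fun i =>
    AddMonoidHom.eqLocus A.toAddMonoidHom (DistribSMul.toAddMonoidHom _ (chi ζ i))
  let E' : ZMod p → AddSubgroup M := fun i => (E i).map (nsmulAddMonoidHom c)
  have hmem : ∀ {i : ZMod p} {x}, x ∈ E i ↔ A x = chi ζ i • x := Iff.rfl
  have hmem' : ∀ {i : ZMod p} {x}, x ∈ E' i ↔ ∃ y ∈ E i, c • y = x := Iff.rfl
  have hE : IsGraded E' := by
    refine ⟨le_bot_iff.1 fun x hx => ?_, fun i j a ha b hb => ?_⟩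
    · obtain ⟨y, hy, rfl⟩ := hmem'.1 hx
      rw [hmem, chi, ZMod.val_zero, pow_zero, one_smul] at hy
      exact hAfix y hy
    · obtain ⟨a', ha', rfl⟩ := hmem'.1 ha
      obtain ⟨b', hb', rfl⟩ := hmem'.1 hb
      refine hmem'.2 ⟨c • ⁅a', b'⁆, nsmul_mem ?_ c, by rw [nsmul_lie, lie_nsmul]⟩
      rw [hmem] at ha' hb' ⊢
      rw [hAlie, ha', hb', smul_lie, lie_smul, smul_smul, chi_add hζ]
  have hspan : ∀ x : M, (c * p) • x ∈ ⨆ k, E' k := by
    intro x
    let e : ZMod p → M := fun i => ∑ k : ZMod p, chi ζ (-(i * k)) • A^[k.val] x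
    have he : ∀ i, e i ∈ E i := by
      intro i
      rw [hmem]
      simp only [e]
      rw [map_sum, Finset.smul_sum (r := chi ζ i)]
      simp only [map_smul]
      calc ∑ k : ZMod p, chi ζ (-(i * k)) • A (A^[k.val] x)
          = ∑ k : ZMod p, chi ζ i • chi ζ (-(i * (k + 1))) • A^[(k + 1).val] x := by
            refine Finset.sum_congr rfl fun k _ => ?_
            rw [smul_smul, ← chi_add hζ, ← Function.iterate_succ_apply' (⇑A), hper (k.val + 1), ZMod.val_add,
              ZMod.val_one]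
            congr 2
            ring
        _ = ∑ k : ZMod p, chi ζ i • chi ζ (-(i * k)) • A^[k.val] x :=
            Fintype.sum_equiv (Equiv.addRight (1 : ZMod p)) _ _ fun k => by simp only [Equiv.coe_addRight]
    have hs : ∑ i, e i = p • x := by
      simp only [e]
      rw [Finset.sum_comm]
      simp only [← Finset.sum_smul]
      rw [Finset.sum_eq_single (0 : ZMod p) (fun k _ hk => by
          simp only [← mul_neg]
          rw [sum_chi_mul hsum (neg_ne_zero.2 hk), zero_smul]) (fun h => absurd (Finset.mem_univ _) h)]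
      simp only [mul_zero, neg_zero, ZMod.val_zero, chi, pow_zero, Finset.sum_const, Finset.card_univ, ZMod.card,
        Function.iterate_zero_apply]
      rw [smul_assoc, one_smul]
    rw [mul_smul, ← hs, Finset.smul_sum]
    exact sum_mem fun i _ => AddSubgroup.mem_iSup_of_mem i (hmem'.2 ⟨e i, he i, rfl⟩)
  -- the series is mapped into the graded series
  have key : ∀ (t : ℕ) (l : L), l ∈ lowerSeq L t →
      (c * p) ^ (t + 1) • j l ∈ ⨆ k, ((fun X => act X E')^[t] E') k := by
    intro t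
    induction t with
    | zero => intro l _; rw [pow_one]; exact hspan _
    | succ t ih =>
      have hle : lowerSeq L (t + 1) ≤ (⨆ k, ((fun X => act X E')^[t + 1] E') k).comap
          ((nsmulAddMonoidHom ((c * p) ^ (t + 1 + 1))).comp j) := by
        rw [lowerSeq_succ]
        refine br_le.2 fun a ha b _ => ?_
        rw [Function.iterate_succ_apply']
        rw [AddSubgroup.mem_comap, AddMonoidHom.comp_apply, hj, nsmulAddMonoidHom_apply,
          pow_succ _ (t + 1), mul_smul, ← lie_nsmul, ← nsmul_lie]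
        exact lie_mem_iSup (ih a ha) (hspan _)
      exact fun l hl => hle hl
  intro l hl
  have h := key n l hl
  rw [hn E' hE] at h
  simpa [Pi.bot_apply, iSup_bot, AddSubgroup.mem_bot] using h

theorem lowerSeq_smul_eq_zero {ζ : R} (hζ : ζ ^ p = 1) (hsum : ∑ i ∈ Finset.range p, ζ ^ i = 0)
    {b : Type*} (B : Module.Basis b ℤ R) (φ : R →ₗ[ℤ] ℤ) (hφ : φ 1 = 1) (f : L →+ L)
    (hflie : ∀ x y, f ⁅x, y⁆ = ⁅f x, f y⁆) (hfp : ∀ x, f^[p] x = x) (c : ℕ)
    (hfix : ∀ x, f x = x → c • x = 0) (n : ℕ)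
    (hn : ∀ E : ZMod p → AddSubgroup (R ⊗[ℤ] L), IsGraded E → (fun X => act X E)^[n] E = ⊥) :
    ∀ l ∈ lowerSeq L n, (c * p) ^ (n + 1) • l = 0 := by
  let A : R ⊗[ℤ] L →ₗ[R] R ⊗[ℤ] L := f.toIntLinearMap.baseChange R
  have hA : ∀ (r : R) (l : L), A (r ⊗ₜ l) = r ⊗ₜ f l := fun r l => LinearMap.baseChange_tmul _ _ _
  have z1 : ∀ x : R ⊗[ℤ] L, ⁅x, (0 : R ⊗[ℤ] L)⁆ = 0 := fun x => lie_zero x
  have z2 : ∀ x : R ⊗[ℤ] L, ⁅(0 : R ⊗[ℤ] L), x⁆ = 0 := fun x => zero_lie x
  have d1 : ∀ x y z : R ⊗[ℤ] L, ⁅x, y + z⁆ = ⁅x, y⁆ + ⁅x, z⁆ := fun x y z => lie_add x y z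
  have d2 : ∀ x y z : R ⊗[ℤ] L, ⁅x + y, z⁆ = ⁅x, z⁆ + ⁅y, z⁆ := fun x y z => add_lie x y z
  have hAlie : ∀ x y, A ⁅x, y⁆ = ⁅A x, A y⁆ := by
    intro x y
    induction x using TensorProduct.induction_on with
    | zero => rw [z2, map_zero, z2]
    | add u v hu hv => rw [d2, map_add, map_add, hu, hv, d2]
    | tmul r l =>
      induction y using TensorProduct.induction_on with
      | zero => rw [z1, map_zero, z1]
      | add u v hu hv => rw [d1, map_add, map_add, hu, hv, d1]
      | tmul s k => rw [tmul_lie, hA, hA, hA, tmul_lie, hflie]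
  have hApow : ∀ x, A^[p] x = x := by
    intro x
    induction x using TensorProduct.induction_on with
    | zero => exact iterate_map_zero A p
    | add u v hu hv => rw [iterate_map_add, hu, hv]
    | tmul r l =>
      have h : ∀ j, A^[j] (r ⊗ₜ l) = r ⊗ₜ f^[j] l := by
        intro j
        induction j with
        | zero => rfl
        | succ j ih => rw [Function.iterate_succ_apply', ih, hA, Function.iterate_succ_apply']
      rw [h, hfp]
  have hAfix : ∀ x, A x = x → c • x = 0 := by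
    intro x hx
    classical
    apply (TensorProduct.equivFinsuppOfBasisLeft B (N := L)).injective
    rw [map_zero, map_nsmul]
    refine Finsupp.ext fun i => ?_
    have hnat : ∀ y : R ⊗[ℤ] L, TensorProduct.equivFinsuppOfBasisLeft B (A y) i =
        f (TensorProduct.equivFinsuppOfBasisLeft B y i) := by
      intro y
      induction y using TensorProduct.induction_on with
      | zero => simp
      | add u v hu hv => simp only [map_add, Finsupp.add_apply, hu, hv]
      | tmul r l => rw [hA, TensorProduct.equivFinsuppOfBasisLeft_apply_tmul_apply,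
          TensorProduct.equivFinsuppOfBasisLeft_apply_tmul_apply, map_zsmul]
    rw [Finsupp.smul_apply]
    refine hfix _ ?_
    rw [← hnat, hx]
  intro l hl
  have h := lowerSeq_smul_aux (M := R ⊗[ℤ] L) hζ hsum A hAlie hApow c hAfix
    (TensorProduct.mk ℤ R L 1).toAddMonoidHom
    (fun x y => by
      show (1 : R) ⊗ₜ[ℤ] ⁅x, y⁆ = ⁅(1 : R) ⊗ₜ[ℤ] x, (1 : R) ⊗ₜ[ℤ] y⁆
      rw [tmul_lie, one_mul])
    n hn l hl
  have := congrArg (fun z => TensorProduct.lid ℤ L (φ.rTensor L z)) h
  simpa [hφ, map_nsmul] using this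

end Twisted

/-- The general bound with fixed points killed by `c`. -/
theorem lowerSeq_class_smul {L : Type*} [LieRing L] {p : ℕ} [Fact p.Prime] (f : L →+ L)
    (hflie : ∀ x y, f ⁅x, y⁆ = ⁅f x, f y⁆) (hfp : ∀ x, f^[p] x = x) (c : ℕ)
    (hfix : ∀ x, f x = x → c • x = 0) {n : ℕ} (hN : n = ∑ i ∈ Finset.range (2 ^ (p - 1) - 1), (p - 1) ^ i) :
    ∀ l ∈ lowerSeq L n, (c * p) ^ (n + 1) • l = 0 := by
  subst hN
  have hp := (Fact.out : p.Prime)
  set g := Polynomial.cyclotomic p ℤ with hg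
  have hmon : g.Monic := Polynomial.cyclotomic.monic p ℤ
  have hroot : Polynomial.aeval (AdjoinRoot.root g) g = 0 := by rw [AdjoinRoot.aeval_eq, AdjoinRoot.mk_self]
  have hζ : AdjoinRoot.root g ^ p = 1 := by
    obtain ⟨q, hq⟩ := Polynomial.cyclotomic.dvd_X_pow_sub_one p ℤ
    have := congrArg (Polynomial.aeval (AdjoinRoot.root g)) hq
    rw [map_mul, hroot, zero_mul, map_sub, map_pow, Polynomial.aeval_X, map_one, sub_eq_zero] at this
    exact this
  have hsum : ∑ i ∈ Finset.range p, AdjoinRoot.root g ^ i = 0 := by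
    have := hroot
    conv at this => lhs; arg 2; rw [hg, Polynomial.cyclotomic_prime]
    rw [map_sum] at this
    simpa using this
  let φ : AdjoinRoot g →ₗ[ℤ] ℤ := (Polynomial.lcoeff ℤ 0).comp (AdjoinRoot.modByMonicHom hmon)
  have hφ : φ 1 = 1 := by
    have h1 : AdjoinRoot.modByMonicHom hmon 1 = 1 := by
      rw [← map_one (AdjoinRoot.mk g), AdjoinRoot.modByMonicHom_mk hmon, Polynomial.modByMonic_eq_self_iff hmon,
        Polynomial.degree_one, hg, Polynomial.degree_cyclotomic]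
      exact_mod_cast Nat.totient_pos.2 hp.pos
    show Polynomial.coeff (AdjoinRoot.modByMonicHom hmon 1) 0 = 1
    rw [h1, Polynomial.coeff_one_zero]
  exact lowerSeq_smul_eq_zero hζ hsum (AdjoinRoot.powerBasis' hmon).basis φ hφ f hflie hfp c hfix _
    (fun E hE => class_bound hE)

/-- The degree `k` part lies in the `k`-th term. -/
theorem ι_mem_lowerSeq {G : Type*} [Group G] [Finite G] {c : ℕ} :
    ∀ k : ℕ, ∀ a ∈ lcs G k, (ι k a : Gr G c) ∈ lowerSeq (Gr G c) k := by
  intro k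
  induction k with
  | zero => exact fun a _ => AddSubgroup.mem_top _
  | succ k ih =>
    intro a ha
    have hsub : ∀ x ∈ Subgroup.closure {x | ∃ a ∈ lcs G k, ∃ b ∈ (⊤ : Subgroup G), ⁅a, b⁆ = x},
        x ∈ lcs G (k + 1) ∧ (ι (k + 1) x : Gr G c) ∈ lowerSeq (Gr G c) (k + 1) := by
      intro x hx
      induction hx using Subgroup.closure_induction with
      | mem x hx =>
        obtain ⟨a, ha, b, hb, rfl⟩ := hx
        refine ⟨comm_mem (i := k) (j := 0) ha hb, ?_⟩
        rw [show k + 1 = k + 0 + 1 from rfl, ← lie_ι ha (j := 0) hb, lowerSeq_succ]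
        exact lie_mem_br (ih a ha) (AddSubgroup.mem_top _)
      | one => exact ⟨one_mem _, by rw [ι_one]; exact zero_mem _⟩
      | mul x y _ _ hx hy => exact ⟨mul_mem hx.1 hy.1, by rw [ι_mul hx.1 hy.1]; exact add_mem hx.2 hy.2⟩
      | inv x _ hx => exact ⟨inv_mem hx.1, by rw [ι_inv hx.1]; exact neg_mem hx.2⟩
    exact (hsub a ha).2

theorem ι_map_eq_of_grMap_eq {G : Type*} [Group G] [Finite G] {c : ℕ} (f : G →* G) {x : Gr G c}
    (hx : grMap f x = x) (k : Fin c) :
    (rep x k)⁻¹ * f (rep x k) ∈ lcs G ((k : ℕ) + 1) := by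
  refine inv_mul_mem_of_ι_eq (c := c) k.2 (rep_mem x k) (map_mem_lcs f (rep_mem x k)) ?_
  have hcomp : (ι (k : ℕ) (f (rep x k)) : Gr G c) k = x k := by
    have := congrFun hx k
    rw [grMap_apply, Finset.sum_apply, Finset.sum_eq_single k (fun j _ hj => ?_)
      (fun h => absurd (Finset.mem_univ _) h)] at this
    · exact this
    · rw [ι_eq j.2 (map_mem_lcs f (rep_mem x j)), Pi.single_eq_of_ne hj.symm]
  rw [ι_eq k.2 (map_mem_lcs f (rep_mem x k))] at hcomp
  simp only [Fin.eta, Pi.single_eq_same] at hcomp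
  rw [ι_rep, ι_eq k.2 (map_mem_lcs f (rep_mem x k)), ← hcomp]

end Cfsg.Lib.LieFpf
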